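-- Team project SUG (S2412, helper60): leaf [GCOMM2] of the [GEN] cut (helper97).
import Cfsg.Agent.Lib.Helper60.SUG.GenDefs

set_option autoImplicit false

namespace Cfsg.Agent.Lib.Helper97.SUG

open Cfsg.Agent.Lib.Helper60.SUG Matrix

universe u

theorem vA_eq_zero {F : Type u} [Field F] (n : ℕ) (lam : F) (i : Fin n) (hi : ¬ (i : ℕ) < 2) :
    vA n lam i = 0 := by
  have h0 : (i : ℕ) ≠ 0 := by omega
  have h1 : (i : ℕ) ≠ 1 := by omega
  simp [vA, h0, h1]

theorem pkgGComm2 : PkgGComm2.{u} := by
  intro F _ _ q hF n hn lam α c₀ g₀ d hlam hc₀ hα hg₀ hd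
  have hq : q ≠ 0 := by
    rintro rfl
    have : 0 < Fintype.card F := Fintype.card_pos
    rw [hF] at this
    simp at this
  apply Subtype.ext
  apply Subtype.ext
  show mat g₀ * mat d = mat d * mat g₀
  rw [hg₀, hd]
  unfold Cfsg.unitaryTransvection
  ext i j
  simp only [Matrix.add_apply, Matrix.smul_apply, Matrix.mul_diagonal, Matrix.diagonal_mul,
    Matrix.vecMulVec_apply, smul_eq_mul]
  have key : vA n lam i * vA n lam j ^ q * dV n α j = dV n α i * (vA n lam i * vA n lam j ^ q) := by
    by_cases hi : (i : ℕ) < 2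
    · by_cases hj : (j : ℕ) < 2
      · have e1 : dV n α i = α := by simp [dV, hi]
        have e2 : dV n α j = α := by simp [dV, hj]
        rw [e1, e2]
        ring
      · rw [vA_eq_zero n lam j hj, zero_pow hq]
        ring
    · rw [vA_eq_zero n lam i hi]
      ring
  have k1 : (1 : Matrix (Fin n) (Fin n) F) i j * dV n α j
      = dV n α i * (1 : Matrix (Fin n) (Fin n) F) i j := by
    by_cases h : i = j
    · subst h
      ring
    · rw [Matrix.one_apply_ne h]
      ring
  linear_combination k1 + c₀ * key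

end Cfsg.Agent.Lib.Helper97.SUG
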